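import Groth.Agent.LocFreeHomLib.Basic
import Groth.Agent.PullbackMod.SkyStalk
import Groth.Agent.AmpleLib.Pullback

/-!
# The internal Hom out of a locally free module and inverse images
-/

set_option autoImplicit false
set_option backward.isDefEq.respectTransparency false
set_option linter.style.haveILetI false

universe u

open CategoryTheory CategoryTheory.Limits AlgebraicGeometry TopologicalSpace Opposite
open Groth.Agent.PullbackMod Groth.Agent.DCohLib Groth.Agent.StalkHomLib
open scoped TensorProduct

noncomputable section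

namespace Groth.Agent.HomFibreLib

variable {X X' : Scheme.{u}} (g : X' ⟶ X)

/-- The comparison of tensor products on pulled-back pairs. -/
theorem pullTensor_pullMap (M N : X.Modules) {U : X.Opens} (m : Γ(M, U)) (n : Γ(N, U)) :
    (AmpleLib.pullTensor g M N).hom.app (g ⁻¹ᵁ U) (pullMap g (tmod M N) le_rfl (pairS M N m n)) =
      pairS _ _ (pullMap g M (W' := g ⁻¹ᵁ U) le_rfl m) (pullMap g N (W' := g ⁻¹ᵁ U) le_rfl n) := by
  let f := ModSite.RMor.ofScheme g
  have hres : ∀ (P : X.Modules) (p : Γ(P, U)), pullMap g P (W' := g ⁻¹ᵁ U) le_rfl p =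
      (((Scheme.Modules.pullbackPushforwardAdjunction g).unit.app P).app U).hom p := fun P p => by
    show ((Scheme.Modules.pullback g).obj P).presheaf.map (homOfLE (le_refl (g ⁻¹ᵁ U))).op _ = _
    rw [show homOfLE (le_refl (g ⁻¹ᵁ U)) = 𝟙 _ from Subsingleton.elim _ _, op_id,
      CategoryTheory.Functor.map_id]
    rfl
  let adj := PresheafOfModules.sheafificationAdjunction (𝟙 (ModSite.ringSh X.sheaf).obj)
  have e1 : f.adj.homEquiv _ _ (PullFlat.tensorCmp f M N) =
      (adj.homEquiv _ _).symm (PullFlat.pairPush f M N) := Equiv.apply_symm_apply _ _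
  have e2 : adj.homEquiv _ _ (f.adj.homEquiv _ _ (PullFlat.tensorCmp f M N)) = PullFlat.pairPush f M N :=
    (congrArg _ e1).trans (Equiv.apply_symm_apply _ _)
  rw [hres, hres M m, hres N n]
  exact congr(($e2).app (op U) (m ⊗ₜ[Γ(X, U)] n : Γ(M, U) ⊗[Γ(X, U)] Γ(N, U)))

/-- The comparison of tensor products on stalks. -/
theorem pullTensor_pullStalk (M N : X.Modules) (z : X') (a : M.presheaf.stalk (g z)) (b : N.presheaf.stalk (g z)) :
    stalkLin (AmpleLib.pullTensor g M N).hom z (pullStalk g _ z (stalkTensor (g z) M N (a ⊗ₜ b))) =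
      stalkTensor z _ _ (pullStalk g M z a ⊗ₜ pullStalk g N z b) := by
  obtain ⟨U, hx, m, n, rfl, rfl⟩ := exists_common_germ (g z) a b
  rw [pullStalk_germ' g M z hx (W' := g ⁻¹ᵁ U) hx le_rfl, pullStalk_germ' g N z hx (W' := g ⁻¹ᵁ U) hx le_rfl]
  show stalkLin _ z (pullStalk g _ z (stalkTensorHom (g z) _)) = stalkTensorHom z _
  rw [stalkTensorHom_tmul, stalkTensorHom_tmul, pullStalk_germ' g _ z hx (W' := g ⁻¹ᵁ U) hx le_rfl]
  exact (stalkLin_germ _ _ _ _).trans (congrArg _ (pullTensor_pullMap g M N m n))

theorem stalkLin_inv_hom {M N : X'.Modules} (e : M ≅ N) (z : X') (t : M.presheaf.stalk z) :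
    stalkLin e.inv z (stalkLin e.hom z t) = t := by
  rw [← LinearMap.comp_apply, ← stalkLin_comp, e.hom_inv_id]
  obtain ⟨U, hx, s, rfl⟩ := TopCat.Presheaf.exists_germ_eq M.presheaf t
  exact stalkLin_germ _ _ _ _

variable (F G : X.Modules)

/-- The evaluation, pulled back. -/
def evPull : tmod ((Scheme.Modules.pullback g).obj ((hF F).obj G)) ((Scheme.Modules.pullback g).obj F) ⟶
    (Scheme.Modules.pullback g).obj G :=
  (AmpleLib.pullTensor g ((hF F).obj G) F).inv ≫ (Scheme.Modules.pullback g).map (ev F G)

/-- The comparison `g^* Hom(F, G) ⟶ Hom(g^* F, g^* G)`. -/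
def cmpHom : (Scheme.Modules.pullback g).obj ((hF F).obj G) ⟶
    (hF ((Scheme.Modules.pullback g).obj F)).obj ((Scheme.Modules.pullback g).obj G) :=
  (ModSite.sheafHomAdj (O := X'.sheaf) ((Scheme.Modules.pullback g).obj F)).homEquiv
    ((Scheme.Modules.pullback g).obj ((hF F).obj G)) ((Scheme.Modules.pullback g).obj G) (evPull g F G)

theorem theta_cmpHom (z : X') (h : ((hF F).obj G).presheaf.stalk (g z)) (a : F.presheaf.stalk (g z)) :
    theta ((Scheme.Modules.pullback g).obj F) ((Scheme.Modules.pullback g).obj G) z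
      (stalkLin (cmpHom g F G) z (pullStalk g _ z h)) (pullStalk g F z a) =
      pullStalk g G z (theta F G (g z) h a) := by
  rw [theta_transpose]
  refine (congrArg (fun q : tmod ((Scheme.Modules.pullback g).obj ((hF F).obj G))
      ((Scheme.Modules.pullback g).obj F) ⟶ (Scheme.Modules.pullback g).obj G => stalkLin q z _)
    (Equiv.symm_apply_apply _ (evPull g F G))).trans ?_
  refine (congrArg (fun q => stalkLin (evPull g F G) z q) (pullTensor_pullStalk g _ F z h a).symm).trans ?_
  refine (LinearMap.congr_fun (stalkLin_comp _ _ z) _).trans ?_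
  refine (congrArg (stalkLin ((Scheme.Modules.pullback g).map (ev F G)) z)
    (stalkLin_inv_hom (AmpleLib.pullTensor g ((hF F).obj G) F) z _)).trans ?_
  exact (pullStalk_natural g (ev F G) z _).trans (congrArg _ (theta_apply F G (g z) h a).symm)

/-- For locally free modules of finite rank the comparison is an isomorphism. -/
theorem isIso_cmpHom (hFl : FlatMod.IsFinLocFree F) (hGl : FlatMod.IsFinLocFree G) : IsIso (cmpHom g F G) := by
  classical
  refine (isIso_iff_stalk _).2 fun z => ?_
  let F' := (Scheme.Modules.pullback g).obj F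
  let G' := (Scheme.Modules.pullback g).obj G
  let E := (hF F).obj G
  let R := X.presheaf.stalk (g z)
  let S := X'.presheaf.stalk z
  letI : Algebra R S := (g.stalkMap z).hom.toAlgebra
  letI : Module R (F'.presheaf.stalk z) := Module.compHom _ (g.stalkMap z).hom
  haveI : IsScalarTower R S (F'.presheaf.stalk z) := .of_algebraMap_smul fun _ _ => rfl
  letI : Module R (G'.presheaf.stalk z) := Module.compHom _ (g.stalkMap z).hom
  haveI : IsScalarTower R S (G'.presheaf.stalk z) := .of_algebraMap_smul fun _ _ => rfl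
  letI : Module R (((Scheme.Modules.pullback g).obj E).presheaf.stalk z) := Module.compHom _ (g.stalkMap z).hom
  haveI : IsScalarTower R S (((Scheme.Modules.pullback g).obj E).presheaf.stalk z) :=
    .of_algebraMap_smul fun _ _ => rfl
  obtain ⟨hFf, hFn⟩ := free_finite_stalk_of_flf hFl (g z)
  obtain ⟨hGf, hGn⟩ := free_finite_stalk_of_flf hGl (g z)
  let b := Module.Free.chooseBasis R (F.presheaf.stalk (g z))
  let c := Module.Free.chooseBasis R (G.presheaf.stalk (g z))
  have hFbc : IsBaseChange S (pullStalkL g F z) := isBaseChange_pullStalkL' g F z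
  have hGbc : IsBaseChange S (pullStalkL g G z) := isBaseChange_pullStalkL' g G z
  have hEbc : IsBaseChange S (pullStalkL g E z) := isBaseChange_pullStalkL' g E z
  let b' := (b.baseChange S).map hFbc.equiv
  let c' := (c.baseChange S).map hGbc.equiv
  have hb' : ∀ i, b' i = pullStalk g F z (b i) := fun i => by
    rw [Module.Basis.map_apply, Module.Basis.baseChange_apply, IsBaseChange.equiv_tmul, one_smul]
    rfl
  have hc' : ∀ i, c' i = pullStalk g G z (c i) := fun i => by
    rw [Module.Basis.map_apply, Module.Basis.baseChange_apply, IsBaseChange.equiv_tmul, one_smul]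
    rfl
  let θ := LinearEquiv.ofBijective _ (LocFreeHomLib.theta_bijective_flf F hFl G (g z))
  let hm := fun p : _ × _ => θ.symm (b.constr R fun i => if i = p.1 then c p.2 else 0)
  have hhm : ∀ p i, theta F G (g z) (hm p) (b i) = if i = p.1 then c p.2 else 0 := fun p i =>
    (LinearMap.congr_fun (θ.apply_symm_apply _) (b i)).trans (b.constr_basis R _ i)
  have hspan : ∀ h : E.presheaf.stalk (g z), h = ∑ p, (c.repr (theta F G (g z) h (b p.1)) p.2) • hm p := fun h => by
    refine θ.injective (b.ext fun i => ?_)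
    rw [map_sum, LinearMap.sum_apply, Fintype.sum_prod_type, Finset.sum_eq_single i]
    · simp only [map_smul, LinearMap.smul_apply]
      show theta F G (g z) h (b i) = ∑ j, _ • theta F G (g z) (hm (i, j)) (b i)
      simp only [hhm, if_true]
      exact (c.sum_repr _).symm
    · intro i' _ hi'
      refine Finset.sum_eq_zero fun j _ => ?_
      rw [map_smul, LinearMap.smul_apply]
      show _ • theta F G (g z) (hm (i', j)) (b i) = 0
      rw [hhm, if_neg (Ne.symm hi'), smul_zero]
    · exact fun h' => absurd (Finset.mem_univ i) h'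
  let w := fun p => pullStalk g E z (hm p)
  have hw : ∀ p i, theta F' G' z (stalkLin (cmpHom g F G) z (w p)) (b' i) = if i = p.1 then c' p.2 else 0 :=
    fun p i => by
      rw [hb', theta_cmpHom, hhm, hc']
      split_ifs
      · rfl
      · exact map_zero _
  have hval : ∀ (r : _ × _ → S) i, theta F' G' z (stalkLin (cmpHom g F G) z (∑ p, r p • w p)) (b' i) =
      ∑ j, r (i, j) • c' j := fun r i => by
    simp only [map_sum, map_smul, LinearMap.sum_apply, LinearMap.smul_apply, hw, Fintype.sum_prod_type, smul_ite,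
      smul_zero]
    rw [Finset.sum_eq_single i]
    · simp
    · intro i' _ hi'
      simp [Ne.symm hi']
    · exact fun h' => absurd (Finset.mem_univ i) h'
  have hgen : ∀ v : ((Scheme.Modules.pullback g).obj E).presheaf.stalk z, ∃ r : _ × _ → S, ∑ p, r p • w p = v := by
    intro v
    induction v using hEbc.inductionOn with
    | zero => exact ⟨0, by simp⟩
    | tmul h =>
      refine ⟨fun p => algebraMap R S (c.repr (theta F G (g z) h (b p.1)) p.2), ?_⟩
      conv_rhs => rw [hspan h, map_sum]
      refine Finset.sum_congr rfl fun p _ => ?_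
      rw [map_smul, algebraMap_smul]
      rfl
    | smul s v hv =>
      obtain ⟨r, rfl⟩ := hv
      exact ⟨fun p => s * r p, by simp [Finset.smul_sum, smul_smul]⟩
    | add v v' hv hv' =>
      obtain ⟨r, rfl⟩ := hv
      obtain ⟨r', rfl⟩ := hv'
      exact ⟨r + r', by simp [add_smul, Finset.sum_add_distrib]⟩
  have hth := LocFreeHomLib.theta_bijective_flf F' (PullbackMod.isFinLocFree_pullback g F hFl) G' z
  refine (Function.Bijective.of_comp_iff' hth _).1 ⟨?_, fun φ => ?_⟩
  · intro v v' hvv
    obtain ⟨r, rfl⟩ := hgen v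
    obtain ⟨r', rfl⟩ := hgen v'
    have : r = r' := funext fun p => by
      have h1 : ∑ j, r (p.1, j) • c' j = ∑ j, r' (p.1, j) • c' j :=
        (hval r p.1).symm.trans ((LinearMap.congr_fun hvv (b' p.1)).trans (hval r' p.1))
      have h2 := congrArg (fun q => c'.repr q p.2) h1
      simp only [Module.Basis.repr_sum_self] at h2
      exact h2
    rw [this]
  · let r := fun p : _ × _ => c'.repr (φ (b' p.1)) p.2
    refine ⟨∑ p, r p • w p, ?_⟩
    refine b'.ext fun i => ?_
    exact (hval r i).trans (c'.sum_repr (φ (b' i)))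

end Groth.Agent.HomFibreLib
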