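import Groth.Agent.HomFibreLib.Cmp
import Groth.Agent.BCLib.LiftFibre
import Groth.Agent.StalkHomLib.SectHom
import Groth.Agent.TildePerf.RelPerf
import Groth.Agent.DCohLib.PerfCoh

/-!
# Lifting homomorphisms from a fibre
-/

set_option autoImplicit false
set_option backward.isDefEq.respectTransparency false
set_option linter.style.haveILetI false

universe u

open CategoryTheory CategoryTheory.Limits AlgebraicGeometry TopologicalSpace Opposite
open Groth.Agent.CohBase Groth.Agent.ProjCoh Groth.Agent.FormalLib Groth.Agent.PullbackMod Groth.Agent.DCohLib Groth.Agent.StalkHomLib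
open scoped TensorProduct

noncomputable section

namespace Groth.Agent.HomFibreLib

variable {X : Scheme.{u}} {F G : X.Modules}

/-- The morphism given by a global section of the internal Hom. -/
def homOfSec (s : Γ((hF F).obj G, ⊤)) : F ⟶ G :=
  SheafOfModules.Hom.mk <| PresheafOfModules.homMk
    { app := fun U => AddCommGrpCat.ofHom
        (AddMonoidHom.mk' (fun v : Γ(F, U.unop) =>
          evS F G (((hF F).obj G).presheaf.map (homOfLE (le_top : U.unop ≤ ⊤)).op s) v)
          (evS_add_right F G _))
      naturality := fun U V i => by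
        ext v
        show evS F G _ (F.presheaf.map i v) = G.presheaf.map i (evS F G _ v)
        rw [show i = (homOfLE i.unop.le).op from Subsingleton.elim _ _, evS_res]
        refine congrArg (fun t => evS F G t _) ?_
        exact (ParaFLib.res_res _ _ _).symm }
    (fun U r v => evS_smul_right F G r _ v)

theorem theta_homOfSec (s : Γ((hF F).obj G, ⊤)) (x : X) (a : F.presheaf.stalk x) :
    stalkLin (homOfSec s) x a = theta F G x (((hF F).obj G).presheaf.germ ⊤ x trivial s) a := by
  obtain ⟨U, hx, v, rfl⟩ := TopCat.Presheaf.exists_germ_eq F.presheaf a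
  rw [stalkLin_germ, ← TopCat.Presheaf.germ_res_apply ((hF F).obj G).presheaf (homOfLE (le_top : U ≤ ⊤)) x hx s]
  exact (theta_germ F G hx _ v).symm

/-- The section given by a morphism. -/
theorem exists_sec (u : F ⟶ G) : ∃ σ : Γ((hF F).obj G, ⊤), ∀ (x : X) (a : F.presheaf.stalk x),
    theta F G x (((hF F).obj G).presheaf.germ ⊤ x trivial σ) a = stalkLin u x a := by
  let b : Coh.structureModule X ⟶ (hF F).obj G :=
    (ModSite.sheafHomAdj (O := X.sheaf) F).homEquiv (Coh.structureModule X) G (unitMap F ≫ u)
  refine ⟨b.app ⊤ (1 : Γ(X, ⊤)), fun x a => ?_⟩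
  rw [← stalkLin_germ b (U := ⊤) x trivial (1 : Γ(X, ⊤)), theta_transpose]
  refine (congrArg (fun q : tmod (Coh.structureModule X) F ⟶ G => stalkLin q x _)
    (Equiv.symm_apply_apply _ (unitMap F ≫ u))).trans ?_
  rw [stalkLin_comp, LinearMap.comp_apply]
  exact congrArg _ (unitMap_stalk F x a)

theorem isFlatOver_hF {S : Scheme.{u}} (f : X ⟶ S) [Flat f]
    (hFl : FlatMod.IsFinLocFree F) (hGl : FlatMod.IsFinLocFree G) : FlatMod.IsFlatOver f ((hF F).obj G) := fun x => by
  letI := (f.stalkMap x).hom.toAlgebra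
  letI := FlatMod.moduleStalkOver f ((hF F).obj G) x
  obtain ⟨hFf, hFn⟩ := free_finite_stalk_of_flf hFl x
  obtain ⟨hGf, hGn⟩ := free_finite_stalk_of_flf hGl x
  haveI : Module.Free (X.presheaf.stalk x) (((hF F).obj G).presheaf.stalk x) :=
    Module.Free.of_equiv (LinearEquiv.ofBijective _ (LocFreeHomLib.theta_bijective_flf F hFl G x)).symm
  haveI : Module.Flat (S.presheaf.stalk (f x)) (X.presheaf.stalk x) := Flat.stalkMap f x
  haveI : IsScalarTower (S.presheaf.stalk (f x)) (X.presheaf.stalk x) (((hF F).obj G).presheaf.stalk x) :=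
    .of_algebraMap_smul fun _ _ => rfl
  exact Module.Flat.trans (S.presheaf.stalk (f x)) (X.presheaf.stalk x) (((hF F).obj G).presheaf.stalk x)

theorem isCoh_hF_flf [IsLocallyNoetherian X] (hFl : FlatMod.IsFinLocFree F) (hGl : FlatMod.IsFinLocFree G) :
    Coh.IsCoh ((hF F).obj G) :=
  StalkHomLib.isCoh_hF F G (DCohLib.isCoh_of_isFinLocFree hFl) (DCohLib.isCoh_of_isFinLocFree hGl)

/-- Two morphisms out of an inverse image agree when they agree on pulled-back germs. -/
theorem hom_ext_pullStalk {X' : Scheme.{u}} (g : X' ⟶ X) {P : X.Modules} {N : X'.Modules}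
    {v w : (Scheme.Modules.pullback g).obj P ⟶ N}
    (h : ∀ (z : X') (a : P.presheaf.stalk (g z)), stalkLin v z (pullStalk g P z a) = stalkLin w z (pullStalk g P z a)) :
    v = w := by
  refine hom_ext_stalk fun z => LinearMap.ext fun t => ?_
  letI : Algebra (X.presheaf.stalk (g z)) (X'.presheaf.stalk z) := (g.stalkMap z).hom.toAlgebra
  letI := Module.compHom (((Scheme.Modules.pullback g).obj P).presheaf.stalk z) (g.stalkMap z).hom
  haveI : IsScalarTower (X.presheaf.stalk (g z)) (X'.presheaf.stalk z)
      (((Scheme.Modules.pullback g).obj P).presheaf.stalk z) := .of_algebraMap_smul fun _ _ => rfl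
  have hbc : IsBaseChange (X'.presheaf.stalk z) (pullStalkL g P z) := isBaseChange_pullStalkL' g P z
  induction t using hbc.inductionOn with
  | zero => rw [map_zero, map_zero]
  | tmul a => exact h z a
  | smul s t ht => rw [map_smul, map_smul, ht]
  | add s t hs ht => rw [map_add, map_add, hs, ht]

/-- The inverse image of the morphism given by a section. -/
theorem stalkLin_pullback_homOfSec {X' : Scheme.{u}} (g : X' ⟶ X) (s : Γ((hF F).obj G, ⊤)) (z : X')
    (a : F.presheaf.stalk (g z)) :
    stalkLin ((Scheme.Modules.pullback g).map (homOfSec s)) z (pullStalk g F z a) =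
      theta ((Scheme.Modules.pullback g).obj F) ((Scheme.Modules.pullback g).obj G) z
        (stalkLin (cmpHom g F G) z (((Scheme.Modules.pullback g).obj ((hF F).obj G)).presheaf.germ ⊤ z trivial
          (pullMap g ((hF F).obj G) (W := ⊤) (W' := ⊤) le_top s))) (pullStalk g F z a) := by
  rw [pullStalk_natural, theta_homOfSec, ← pullStalk_germ' g ((hF F).obj G) z (W := ⊤) (W' := ⊤) trivial trivial le_top,
    theta_cmpHom]

/-- With vanishing `H¹` of the fibre of the internal Hom, morphisms on the fibre lift up to a scalar. -/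
theorem exists_lift_hom {R : CommRingCat.{u}} [IsNoetherianRing R] {X : Scheme.{u}}
    [X.Over (Spec (CommRingCat.of R))] [IsProper (str R X)] [Flat (str R X)] {F G : X.Modules}
    (hFl : FlatMod.IsFinLocFree F) (hGl : FlatMod.IsFinLocFree G) (q : Spec R)
    (h1 : CohIII.fiberRank (str R X) ((hF F).obj G) 1 q = 0)
    (u₀ : (Scheme.Modules.pullback ((str R X).fiberι q)).obj F ⟶
      (Scheme.Modules.pullback ((str R X).fiberι q)).obj G) :
    letI : ((str R X).fiber q).Over (Spec (CommRingCat.of ((Spec R).residueField q))) :=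
      ⟨(str R X).fiberToSpecResidueField q⟩
    ∃ (s : Γ((hF F).obj G, ⊤)) (k : (Spec R).residueField q), k ≠ 0 ∧
      ∀ (z : (str R X).fiber q) (a : F.presheaf.stalk ((str R X).fiberι q z)),
        stalkLin ((Scheme.Modules.pullback ((str R X).fiberι q)).map (homOfSec s)) z
            (pullStalk ((str R X).fiberι q) F z a) =
          ((str R X).fiber q).presheaf.germ ⊤ z trivial
              ((BCLib.secHom (str ((Spec R).residueField q) ((str R X).fiber q)) ⊤).hom k) •
            stalkLin u₀ z (pullStalk ((str R X).fiberι q) F z a) := by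
  haveI : IsLocallyNoetherian X := LocallyOfFiniteType.isLocallyNoetherian (str R X)
  letI : ((str R X).fiber q).Over (Spec (CommRingCat.of ((Spec R).residueField q))) :=
    ⟨(str R X).fiberToSpecResidueField q⟩
  let g := (str R X).fiberι q
  obtain ⟨σ₀, hσ₀⟩ := exists_sec u₀
  haveI := isIso_cmpHom g F G hFl hGl
  let σ := (inv (cmpHom g F G)).app ⊤ σ₀
  obtain ⟨s, k, hk, hs⟩ := BCLib.exists_lift_fibre' (isCoh_hF_flf hFl hGl) (isFlatOver_hF (str R X) hFl hGl) q h1 σ
  refine ⟨s, k, hk, fun z a => ?_⟩
  rw [stalkLin_pullback_homOfSec, hs, ParaFLib.germ_smul', map_smul, map_smul, LinearMap.smul_apply]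
  refine congrArg (((str R X).fiber q).presheaf.germ ⊤ z trivial _ • ·) ?_
  rw [stalkLin_germ, ← hσ₀]
  refine congrArg (fun t => theta ((Scheme.Modules.pullback g).obj F) ((Scheme.Modules.pullback g).obj G) z
    (((hF ((Scheme.Modules.pullback g).obj F)).obj ((Scheme.Modules.pullback g).obj G)).presheaf.germ ⊤ z trivial t)
    (pullStalk g F z a)) ?_
  show ((cmpHom g F G).app ⊤) ((inv (cmpHom g F G)).app ⊤ σ₀) = σ₀
  exact congr(($(IsIso.inv_hom_id (cmpHom g F G))).app ⊤ σ₀)

end Groth.Agent.HomFibreLib
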