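import Groth.Agent.HomFibreLib.Cmp
import Groth.Agent.BCLib.HHMap
import Groth.Prelude.Def_ega3
import Groth.Prelude.Def_DCoh4

/-!
# The vanishing hypothesis on the fibre
-/

set_option autoImplicit false
set_option backward.isDefEq.respectTransparency false
set_option linter.style.haveILetI false

universe u

open CategoryTheory CategoryTheory.Limits AlgebraicGeometry
open Groth.Agent.StalkHomLib

noncomputable section

namespace Groth.Agent.HomFibreLib

variable {X Y : Scheme.{u}}

theorem fiberRank_hF_eq_zero (f : X ⟶ Y) (y : Y) {F G : X.Modules}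
    (hF' : FlatMod.IsFinLocFree F) (hG' : FlatMod.IsFinLocFree G)
    [DCoh.HasSheafHom ((Scheme.Modules.pullback (f.fiberι y)).obj F)] {G' : (f.fiber y).Modules}
    (e : G' ≅ (Scheme.Modules.pullback (f.fiberι y)).obj G)
    (h : Subsingleton (Coh.HH (f.fiber y)
      ((DCoh.sheafHom ((Scheme.Modules.pullback (f.fiberι y)).obj F)).obj G') 1)) :
    CohIII.fiberRank f ((hF F).obj G) 1 y = 0 := by
  let F₀ := (Scheme.Modules.pullback (f.fiberι y)).obj F
  let e₁ : ModSite.sheafHom (O := (f.fiber y).sheaf) F₀ ≅ DCoh.sheafHom F₀ :=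
    Adjunction.rightAdjointUniq (ModSite.sheafHomAdj (O := (f.fiber y).sheaf) F₀)
      ((DCoh.sheafHomAdj F₀).ofNatIsoLeft (ModTensor.tensorSymm (f.fiber y).sheaf F₀).symm)
  haveI := isIso_cmpHom (f.fiberι y) F G hF' hG'
  let e₂ : (DCoh.sheafHom F₀).obj G' ≅ (Scheme.Modules.pullback (f.fiberι y)).obj ((hF F).obj G) :=
    (DCoh.sheafHom F₀).mapIso e ≪≫ (e₁.app _).symm ≪≫ (asIso (cmpHom (f.fiberι y) F G)).symm
  letI : (f.fiber y).Over (Spec (CommRingCat.of (Y.residueField y))) := ⟨f.fiberToSpecResidueField y⟩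
  haveI : Subsingleton (CohIII.fiberH f ((hF F).obj G) y 1) :=
    (BCLib.hhEquivL (A := Y.residueField y) e₂ 1).toEquiv.subsingleton_congr.1 h
  exact Module.finrank_zero_of_subsingleton

end Groth.Agent.HomFibreLib
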