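import Groth.Agent.InjCokerStage.Stalk
import Groth.Agent.FlatLocus.FibreStalk
import Groth.Agent.HilbObsLib.Stalk
import Groth.Agent.PullbackMod.SuppClosed
import Groth.Agent.QCohLib.Coherent
import Groth.Agent.S4850

/-!
# Injectivity and surjectivity along a fibre
-/

set_option autoImplicit false
set_option backward.isDefEq.respectTransparency false
set_option linter.style.haveILetI false

universe u

open CategoryTheory CategoryTheory.Limits AlgebraicGeometry TopologicalSpace Opposite
open Groth.Agent.PullbackMod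

noncomputable section

namespace Groth.Agent.HomFibreLib

variable {X Y : Scheme.{u}} (f : X ⟶ Y) (y : Y)

theorem pullStalk_fiber_spec (M : X.Modules) (z : f.fiber y) :
    Function.Surjective (pullStalk (f.fiberι y) M z) ∧ ∀ a, pullStalk (f.fiberι y) M z a = 0 ↔
      a ∈ (Ideal.map (f.stalkMap (f.fiberι y z)).hom
        (IsLocalRing.maximalIdeal (Y.presheaf.stalk (f (f.fiberι y z)))) • ⊤ :
          Submodule (X.presheaf.stalk (f.fiberι y z)) (M.presheaf.stalk (f.fiberι y z))) := by
  let g := f.fiberι y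
  letI : Algebra (X.presheaf.stalk (g z)) ((f.fiber y).presheaf.stalk z) := (g.stalkMap z).hom.toAlgebra
  letI := Module.compHom (((Scheme.Modules.pullback g).obj M).presheaf.stalk z) (g.stalkMap z).hom
  haveI : IsScalarTower (X.presheaf.stalk (g z)) ((f.fiber y).presheaf.stalk z)
      (((Scheme.Modules.pullback g).obj M).presheaf.stalk z) := .of_algebraMap_smul fun _ _ => rfl
  rw [← FlatLocus.ker_fiberι_stalkMap f y z]
  exact HilbObsLib.baseChange_ker (FlatLocus.fiberι_stalkMap_surjective f y z) (isBaseChange_pullStalkL' g M z)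

theorem mem_fiber_range {x : X} (hx : f x = y) : ∃ z, f.fiberι y z = x := by
  have : x ∈ Set.range (f.fiberι y) := by rw [f.range_fiberι y]; exact hx
  exact this

variable {M N : X.Modules} [Coh.IsQCoh M] [Coh.IsQCoh N] (u : M ⟶ N)

/-- The injectivity locus with flat cokernel contains the fibre. -/
theorem exists_open_injective [LocallyOfFinitePresentation f] (hM : CohB1.IsFP M) (hN : CohB1.IsFP N)
    (hfl : FlatMod.IsFlatOver f N) (hu : Mono ((Scheme.Modules.pullback (f.fiberι y)).map u)) :
    ∃ G : X.Opens, (∀ x, f x = y → x ∈ G) ∧ ∀ x ∈ G, Function.Injective (stalkLin u x) := by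
  refine ⟨⟨_, FlatLocus.isOpen_injective_and_flat_cokernel f u hN hM⟩, fun x hx => ?_, fun x hx => hx.1⟩
  obtain ⟨z, rfl⟩ := mem_fiber_range f y hx
  refine (Groth.Agent.S4850.result f N M hN hM u _ (hfl _)).2 fun m hm => ?_
  obtain ⟨-, hM'⟩ := pullStalk_fiber_spec f y M z
  obtain ⟨-, hN'⟩ := pullStalk_fiber_spec f y N z
  rw [← hM']
  refine (mono_iff_stalk _).1 hu z ?_
  rw [pullStalk_natural, map_zero]
  exact (hN' _).2 hm

/-- The surjectivity locus contains the fibre. -/
theorem exists_open_surjective (hC : CohB1.IsFT (cokernel u)) (hNf : ∀ x, Module.Finite (X.presheaf.stalk x) (N.presheaf.stalk x))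
    (hu : Epi ((Scheme.Modules.pullback (f.fiberι y)).map u)) :
    ∃ G : X.Opens, (∀ x, f x = y → x ∈ G) ∧ ∀ x ∈ G, Function.Surjective (stalkLin u x) := by
  refine ⟨⟨(CohB1.support (cokernel u))ᶜ, (isClosed_support_of_isFT hC).isOpen_compl⟩, fun x hx => ?_,
    fun x hx => ?_⟩
  · obtain ⟨z, rfl⟩ := mem_fiber_range f y hx
    obtain ⟨hsurj, hker⟩ := InjCokerStage.stalk_cokernel u (f.fiberι y z)
    refine not_not.2 ?_
    suffices h : LinearMap.range (stalkLin u (f.fiberι y z)) = ⊤ by
      refine subsingleton_of_forall_eq 0 fun c => ?_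
      obtain ⟨n, rfl⟩ := hsurj c
      exact LinearMap.mem_ker.1 (by rw [hker, h]; trivial)
    obtain ⟨hMs, -⟩ := pullStalk_fiber_spec f y M z
    obtain ⟨-, hN'⟩ := pullStalk_fiber_spec f y N z
    have hsup : (⊤ : Submodule _ (N.presheaf.stalk (f.fiberι y z))) ≤
        LinearMap.range (stalkLin u (f.fiberι y z)) ⊔ Ideal.map (f.stalkMap (f.fiberι y z)).hom
          (IsLocalRing.maximalIdeal (Y.presheaf.stalk (f (f.fiberι y z)))) • ⊤ := fun n _ => by
      obtain ⟨t, ht⟩ := (epi_iff_stalk _).1 hu z (pullStalk (f.fiberι y) N z n)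
      obtain ⟨m, rfl⟩ := hMs t
      rw [pullStalk_natural] at ht
      refine Submodule.mem_sup.2 ⟨stalkLin u _ m, ⟨m, rfl⟩, n - stalkLin u _ m, (hN' _).1 ?_, by abel⟩
      rw [map_sub, ht, sub_self]
    haveI := hNf (f.fiberι y z)
    refine top_le_iff.1 (Submodule.le_of_le_smul_of_le_jacobson_bot Module.Finite.fg_top ?_ hsup)
    rw [IsLocalRing.jacobson_eq_maximalIdeal ⊥ bot_ne_top, Ideal.map_le_iff_le_comap]
    exact fun a ha => map_nonunit (f.stalkMap (f.fiberι y z)).hom a ha
  · obtain ⟨-, hker⟩ := InjCokerStage.stalk_cokernel u x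
    haveI : Subsingleton ((cokernel u).presheaf.stalk x) := not_not.1 hx
    rw [← LinearMap.range_eq_top, ← hker, eq_top_iff]
    exact fun n _ => Subsingleton.elim (α := (cokernel u).presheaf.stalk x) _ _

end Groth.Agent.HomFibreLib
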